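import Cfsg.Agent.ETable.OrthBase
import Cfsg.Agent.QTKE.PslTwo_m3
import Cfsg.Agent.Prune
set_option linter.all false
prune_inst 0x7f00000000000000000000000000000000000000000000000000000000000000000000000000000000000000000000000000000000000000000000000000000000000000000000000000000000000000003fffffffffffffffffffffffffffbeffbdffffffff
open scoped Cfsg.Agent.FastGrp

/-!
# Thin groups: frame (helper817)

* `Thin G` : the Sylow `p`-subgroups of the 2-local subgroups are cyclic for all odd primes `p`;
* `Thin.not_ewit`, `Thin.not_wide` : then `EWit 2 G` and `Wide G` are false;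
* `Thin.congr` : transport.
-/

set_option autoImplicit false

namespace Cfsg.Agent.H817.Thin

open Cfsg Subgroup Cfsg.Agent.ETable

/-- the Sylow `p`-subgroups of the 2-local subgroups are cyclic for all odd primes `p` -/
def Thin (G : Type*) [Group G] : Prop :=
  ∀ M : Subgroup G, IsTwoLocal M → ∀ p : ℕ, p.Prime → p ≠ 2 → ∀ P : Sylow p ↥M, IsCyclic ↥P

variable {G H : Type*} [Group G] [Group H]

/-- in a thin group an elementary abelian `p`-subgroup of a 2-local subgroup has order at most `p` -/
theorem Thin.card_le [Finite G] (h : Thin G) {p : ℕ} (hp : p.Prime) (hp2 : p ≠ 2) {T E : Subgroup G}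
    (hT : IsPGroup 2 T) (hT1 : T ≠ ⊥) (hE : ∀ a ∈ E, a ^ p = 1) (hn : E ≤ normalizer (T : Set G)) :
    Nat.card E ≤ p := by
  have : Fact p.Prime := ⟨hp⟩
  set N : Subgroup G := normalizer (T : Set G) with hN
  set E' : Subgroup N := E.subgroupOf N with hE'
  have hpE : IsPGroup p E' := by
    intro a
    refine ⟨1, ?_⟩
    rw [pow_one]
    exact Subtype.ext (Subtype.ext (hE _ (mem_subgroupOf.1 a.2)))
  obtain ⟨P, hP⟩ := hpE.exists_le_sylow
  have hcy : IsCyclic P := h N ⟨T, hT, hT1, rfl⟩ p hp hp2 P
  have hcE : IsCyclic E' := isCyclic_of_injective (Subgroup.inclusion hP) (Subgroup.inclusion_injective hP)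
  have hcard : Nat.card E' = Nat.card E := Nat.card_congr (subgroupOfEquivOfLe hn).toEquiv
  rw [← hcard]
  obtain ⟨g, hg⟩ := hcE.exists_generator
  rw [← orderOf_eq_card_of_forall_mem_zpowers hg]
  refine Nat.le_of_dvd hp.pos (orderOf_dvd_of_pow_eq_one ?_)
  exact Subtype.ext (Subtype.ext (hE _ (mem_subgroupOf.1 g.2)))

theorem EWit.of_injective {k : ℕ} (f : G →* H) (hf : Function.Injective f) (h : EWit k G) : EWit k H := by
  obtain ⟨p, hp, hp2, hw⟩ := h
  exact ⟨p, hp, hp2, hw.of_injective f hf⟩

/-- two commuting elements of order `p`, neither a power of the other, normalising a 2-subgroup -/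
theorem ewit_two_of_pair [Finite G] {p : ℕ} (hp : p.Prime) (hp2 : p ≠ 2) {x y : G} (hx : x ^ p = 1) (hy : y ^ p = 1)
    (hxy : Commute x y) (hx1 : x ≠ 1) (hyx : y ∉ zpowers x) (T : Subgroup G) (hT : IsPGroup 2 T) (hT1 : T ≠ ⊥)
    (hxT : x ∈ normalizer (T : Set G)) (hyT : y ∈ normalizer (T : Set G)) : EWit 2 G := by
  have : Fact p.Prime := ⟨hp⟩
  refine ⟨p, hp, hp2, T, closure {x, y}, hT, hT1, ?_, ?_, ?_, ?_⟩
  · refine Subgroup.isMulCommutative_closure ?_
    intro a ha b hb
    rcases ha with rfl | ha <;> rcases hb with rfl | hb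
    · rfl
    · rw [Set.mem_singleton_iff.1 hb]; exact hxy
    · rw [Set.mem_singleton_iff.1 ha]; exact hxy.symm
    · rw [Set.mem_singleton_iff.1 ha, Set.mem_singleton_iff.1 hb]
  · have hcomm : ∀ a ∈ closure {x, y}, ∀ b ∈ closure {x, y}, Commute a b := by
      have hc : IsMulCommutative (closure {x, y}) := by
        refine Subgroup.isMulCommutative_closure ?_
        intro a ha b hb
        rcases ha with rfl | ha <;> rcases hb with rfl | hb
        · rfl
        · rw [Set.mem_singleton_iff.1 hb]; exact hxy
        · rw [Set.mem_singleton_iff.1 ha]; exact hxy.symm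
        · rw [Set.mem_singleton_iff.1 ha, Set.mem_singleton_iff.1 hb]
      intro a ha b hb
      have := hc.is_comm.comm ⟨a, ha⟩ ⟨b, hb⟩
      exact congrArg (fun z : closure {x, y} => (z : G)) this
    intro a ha
    induction ha using Subgroup.closure_induction with
    | mem z hz =>
      rcases hz with rfl | hz
      · exact hx
      · rw [Set.mem_singleton_iff.1 hz]; exact hy
    | one => exact one_pow p
    | mul a b ha hb iha ihb => rw [(hcomm a ha b hb).mul_pow, iha, ihb, one_mul]
    | inv a ha ih => rw [inv_pow, ih, inv_one]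
  · have hxc : x ∈ closure {x, y} := subset_closure (Set.mem_insert _ _)
    have hyc : y ∈ closure {x, y} := subset_closure (Set.mem_insert_of_mem _ rfl)
    have hox : orderOf x = p := orderOf_eq_prime hx hx1
    have hZ : zpowers x ≤ closure {x, y} := by rw [zpowers_le]; exact hxc
    -- the order of the closure is a multiple of `p` and greater than `p`, and it is a `p`-group
    have hP : IsPGroup p (closure {x, y}) := by
      intro a
      refine ⟨1, ?_⟩
      rw [pow_one]
      refine Subtype.ext ?_
      have hcomm : ∀ a ∈ closure {x, y}, ∀ b ∈ closure {x, y}, Commute a b := by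
        have hc : IsMulCommutative (closure {x, y}) := by
          refine Subgroup.isMulCommutative_closure ?_
          intro a ha b hb
          rcases ha with rfl | ha <;> rcases hb with rfl | hb
          · rfl
          · rw [Set.mem_singleton_iff.1 hb]; exact hxy
          · rw [Set.mem_singleton_iff.1 ha]; exact hxy.symm
          · rw [Set.mem_singleton_iff.1 ha, Set.mem_singleton_iff.1 hb]
        intro a ha b hb
        have := hc.is_comm.comm ⟨a, ha⟩ ⟨b, hb⟩
        exact congrArg (fun z : closure {x, y} => (z : G)) this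
      have : ∀ z ∈ closure {x, y}, z ^ p = 1 := by
        intro a ha
        induction ha using Subgroup.closure_induction with
        | mem z hz =>
          rcases hz with rfl | hz
          · exact hx
          · rw [Set.mem_singleton_iff.1 hz]; exact hy
        | one => exact one_pow p
        | mul a b ha hb iha ihb => rw [(hcomm a ha b hb).mul_pow, iha, ihb, one_mul]
        | inv a ha ih => rw [inv_pow, ih, inv_one]
      exact this a a.2
    obtain ⟨n, hn⟩ := (IsPGroup.iff_card (p := p)).1 hP
    rw [hn]
    refine Nat.pow_le_pow_right hp.pos ?_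
    by_contra hcon
    have hlt : n = 0 ∨ n = 1 := by omega
    have hcz : Nat.card (zpowers x) = p := by rw [Nat.card_zpowers, hox]
    have hle : Nat.card (closure {x, y}) ≤ Nat.card (zpowers x) := by
      rw [hcz, hn]
      rcases hlt with rfl | rfl
      · rw [pow_zero]; exact hp.pos
      · rw [pow_one]
    have heq : zpowers x = closure {x, y} := Subgroup.eq_of_le_of_card_ge hZ hle
    exact hyx (heq ▸ hyc)
  · rw [closure_le]
    intro a ha
    rcases ha with rfl | ha
    · exact hxT
    · rw [Set.mem_singleton_iff.1 ha]; exact hyT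

end Cfsg.Agent.H817.Thin
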